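import Mathlib

/-!
The projective plane on the cosets of two subgroups `H₁`, `H₂` of index `q² + q + 1` which meet in a
subgroup of index `q + 1` in both, when `G` is doubly transitive on the cosets of `H₁`.
-/

set_option autoImplicit false

namespace CfsgLib.Recog.RankTwo

open Configuration

variable {G : Type*} [Group G]

/-- The points: the cosets of `H₁`. -/
def Pts (H₁ _H₂ : Subgroup G) : Type _ := G ⧸ H₁

/-- The lines: the cosets of `H₂`. -/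
def Lns (_H₁ H₂ : Subgroup G) : Type _ := G ⧸ H₂

variable (H₁ H₂ : Subgroup G)

/-- The point of an element. -/
def pt (g : G) : Pts H₁ H₂ := (g : G ⧸ H₁)

/-- The line of an element. -/
def ln (g : G) : Lns H₁ H₂ := (g : G ⧸ H₂)

/-- A point lies on a line when the cosets meet. -/
instance : Membership (Pts H₁ H₂) (Lns H₁ H₂) :=
  ⟨fun l p => ∃ g : G, pt H₁ H₂ g = p ∧ ln H₁ H₂ g = l⟩

instance : MulAction G (Pts H₁ H₂) := inferInstanceAs (MulAction G (G ⧸ H₁))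

instance : MulAction G (Lns H₁ H₂) := inferInstanceAs (MulAction G (G ⧸ H₂))

instance [Finite G] : Finite (Pts H₁ H₂) := inferInstanceAs (Finite (G ⧸ H₁))

instance [Finite G] : Finite (Lns H₁ H₂) := inferInstanceAs (Finite (G ⧸ H₂))

variable {H₁ H₂}

theorem smul_pt (g x : G) : g • pt H₁ H₂ x = pt H₁ H₂ (g * x) := rfl

theorem smul_ln (g x : G) : g • ln H₁ H₂ x = ln H₁ H₂ (g * x) := rfl

theorem pt_surj (p : Pts H₁ H₂) : ∃ g, pt H₁ H₂ g = p := QuotientGroup.mk_surjective p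

theorem ln_surj (l : Lns H₁ H₂) : ∃ g, ln H₁ H₂ g = l := QuotientGroup.mk_surjective l

theorem pt_eq {x y : G} : pt H₁ H₂ x = pt H₁ H₂ y ↔ x⁻¹ * y ∈ H₁ := QuotientGroup.eq

theorem ln_eq {x y : G} : ln H₁ H₂ x = ln H₁ H₂ y ↔ x⁻¹ * y ∈ H₂ := QuotientGroup.eq

theorem smul_mem_iff (g : G) (p : Pts H₁ H₂) (l : Lns H₁ H₂) : g • p ∈ g • l ↔ p ∈ l := by
  have key : ∀ (g : G) (p : Pts H₁ H₂) (l : Lns H₁ H₂), p ∈ l → g • p ∈ g • l := by
    rintro g p l ⟨x, rfl, rfl⟩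
    exact ⟨g * x, (smul_pt g x).symm, (smul_ln g x).symm⟩
  refine ⟨fun h => ?_, key g p l⟩
  have := key g⁻¹ _ _ h
  rwa [inv_smul_smul, inv_smul_smul] at this

/-- The points of a line. -/
theorem card_mem_line (l : Lns H₁ H₂) :
    Nat.card {p : Pts H₁ H₂ // p ∈ l} = H₁.relIndex H₂ := by
  obtain ⟨g, rfl⟩ := ln_surj l
  rw [Subgroup.relIndex, Subgroup.index]
  refine (Nat.card_eq_of_bijective
    (fun c : H₂ ⧸ H₁.subgroupOf H₂ =>
      (⟨Quotient.liftOn' c (fun h => pt H₁ H₂ (g * h)) (fun a b e => by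
          rw [QuotientGroup.leftRel_apply, Subgroup.mem_subgroupOf] at e
          refine pt_eq.2 ?_
          simpa [mul_assoc] using e),
        Quotient.inductionOn' c fun h =>
          (⟨g * h, rfl, ln_eq.2 (by simpa using inv_mem h.2)⟩ :
            ∃ x : G, pt H₁ H₂ x = pt H₁ H₂ (g * h) ∧ ln H₁ H₂ x = ln H₁ H₂ g)⟩ :
        {p : Pts H₁ H₂ // p ∈ ln H₁ H₂ g})) ⟨?_, ?_⟩).symm
  · intro a b
    induction a using QuotientGroup.induction_on with | _ a => ?_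
    induction b using QuotientGroup.induction_on with | _ b => ?_
    intro e
    have e' : pt H₁ H₂ (g * a) = pt H₁ H₂ (g * b) := congrArg Subtype.val e
    rw [QuotientGroup.eq, Subgroup.mem_subgroupOf]
    simpa [mul_assoc] using pt_eq.1 e'
  · rintro ⟨p, x, rfl, hx⟩
    have h : g⁻¹ * x ∈ H₂ := ln_eq.1 hx.symm
    exact ⟨((⟨g⁻¹ * x, h⟩ : H₂) : H₂ ⧸ H₁.subgroupOf H₂), Subtype.ext (by
      show pt H₁ H₂ (g * (g⁻¹ * x)) = pt H₁ H₂ x
      rw [mul_inv_cancel_left])⟩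

/-- The lines of a point. -/
theorem card_line_mem (p : Pts H₁ H₂) :
    Nat.card {l : Lns H₁ H₂ // p ∈ l} = H₂.relIndex H₁ := by
  rw [← card_mem_line (H₁ := H₂) (H₂ := H₁) (p : Lns H₂ H₁)]
  refine Nat.card_congr (Equiv.subtypeEquivRight fun l => ?_)
  exact ⟨fun ⟨x, a, b⟩ => ⟨x, b, a⟩, fun ⟨x, a, b⟩ => ⟨x, b, a⟩⟩

section Plane

variable [Finite G] {q : ℕ} (hq : 2 ≤ q) (hi₁ : H₁.index = q ^ 2 + q + 1)
  (hi₂ : H₂.index = q ^ 2 + q + 1) (hr₁ : H₁.relIndex H₂ = q + 1) (hr₂ : H₂.relIndex H₁ = q + 1)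
  (h2 : ∀ g h : G, g ∉ H₁ → h ∉ H₁ → ∃ a ∈ H₁, pt H₁ H₂ (a * g) = pt H₁ H₂ h)

include h2 in
theorem two_trans (p₁ p₂ q₁ q₂ : Pts H₁ H₂) (hp : p₁ ≠ p₂) (hq' : q₁ ≠ q₂) :
    ∃ g : G, g • p₁ = q₁ ∧ g • p₂ = q₂ := by
  obtain ⟨a₁, rfl⟩ := pt_surj p₁
  obtain ⟨a₂, rfl⟩ := pt_surj p₂
  obtain ⟨b₁, rfl⟩ := pt_surj q₁
  obtain ⟨b₂, rfl⟩ := pt_surj q₂
  obtain ⟨c, hc, e⟩ := h2 (a₁⁻¹ * a₂) (b₁⁻¹ * b₂) (fun h => hp (pt_eq.2 h))
    (fun h => hq' (pt_eq.2 h))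
  refine ⟨b₁ * c * a₁⁻¹, ?_, ?_⟩
  · rw [smul_pt, inv_mul_cancel_right, pt_eq]
    simpa [mul_assoc] using inv_mem hc
  · rw [smul_pt, pt_eq]
    simpa [mul_assoc] using pt_eq.1 e

include hq hi₁ hr₁ hr₂ h2 in
/-- Two points lie on exactly one line. -/
theorem existsUnique_line (p₁ p₂ : Pts H₁ H₂) (hp : p₁ ≠ p₂) :
    ∃! l : Lns H₁ H₂, p₁ ∈ l ∧ p₂ ∈ l := by
  classical
  haveI := Fintype.ofFinite (Pts H₁ H₂)
  haveI := Fintype.ofFinite (Lns H₁ H₂)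
  let Fl := Σ l : {l : Lns H₁ H₂ // p₁ ∈ l}, {p : Pts H₁ H₂ // p ∈ l.1 ∧ p ≠ p₁}
  let Oth := {p : Pts H₁ H₂ // p ≠ p₁}
  let f : Fl → Oth := fun x => ⟨x.2.1, x.2.2.2⟩
  have hline : ∀ l : {l : Lns H₁ H₂ // p₁ ∈ l}, Nat.card {p : Pts H₁ H₂ // p ∈ l.1 ∧ p ≠ p₁} = q := by
    intro l
    have h1 := card_mem_line (H₁ := H₁) (H₂ := H₂) l.1
    rw [hr₁, Nat.card_eq_fintype_card, Fintype.card_subtype] at h1
    rw [Nat.card_eq_fintype_card, Fintype.card_subtype,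
      show (Finset.univ.filter fun p => p ∈ l.1 ∧ p ≠ p₁)
        = (Finset.univ.filter fun p => p ∈ l.1).erase p₁ by
          ext p; simp [and_comm],
      Finset.card_erase_of_mem (by simp [l.2]), h1]
    omega
  have hFl : Nat.card Fl = (q + 1) * q := by
    rw [Nat.card_sigma, Finset.sum_congr rfl (fun l _ => hline l), Finset.sum_const, smul_eq_mul,
      Finset.card_univ, ← Nat.card_eq_fintype_card, card_line_mem, hr₂]
  have hOth : Nat.card Oth = (q + 1) * q := by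
    have h1 : Nat.card (Pts H₁ H₂) = q ^ 2 + q + 1 := hi₁
    rw [Nat.card_eq_fintype_card] at h1
    rw [Nat.card_eq_fintype_card, Fintype.card_subtype_compl, Fintype.card_subtype_eq, h1]
    ring_nf
    omega
  have hsurj : Function.Surjective f := by
    rintro ⟨r, hr⟩
    have hne : Nonempty Fl := by
      by_contra hh
      rw [not_nonempty_iff] at hh
      rw [Nat.card_of_isEmpty] at hFl
      nlinarith
    obtain ⟨⟨l, hl⟩, ⟨s, hsl, hs⟩⟩ := hne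
    obtain ⟨g, g1, g2⟩ := two_trans h2 p₁ s p₁ r (Ne.symm hs) (Ne.symm hr)
    refine ⟨⟨⟨g • l, ?_⟩, ⟨r, ?_, hr⟩⟩, rfl⟩
    · rw [← g1]; exact (smul_mem_iff g _ _).2 hl
    · show r ∈ g • l
      rw [← g2]; exact (smul_mem_iff g _ _).2 hsl
  have hbij : Function.Bijective f := by
    haveI := Fintype.ofFinite Fl
    haveI := Fintype.ofFinite Oth
    rw [Fintype.bijective_iff_surjective_and_card]
    exact ⟨hsurj, by rw [← Nat.card_eq_fintype_card, ← Nat.card_eq_fintype_card, hFl, hOth]⟩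
  obtain ⟨⟨⟨l, hl⟩, ⟨r, hrl, hr⟩⟩, he⟩ := hbij.2 ⟨p₂, Ne.symm hp⟩
  have he' : r = p₂ := congrArg Subtype.val he
  refine ⟨l, ⟨hl, he' ▸ hrl⟩, fun m hm => ?_⟩
  have := hbij.1 (a₁ := ⟨⟨m, hm.1⟩, ⟨p₂, hm.2, Ne.symm hp⟩⟩) (a₂ := ⟨⟨l, hl⟩, ⟨r, hrl, hr⟩⟩)
    (Subtype.ext he'.symm)
  exact congrArg (fun x : Fl => x.1.1) this

include hq hr₂ in
/-- Some line through a point avoids two given lines. -/
theorem exists_third_line (p : Pts H₁ H₂) (l m : Lns H₁ H₂) :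
    ∃ n : Lns H₁ H₂, p ∈ n ∧ n ≠ l ∧ n ≠ m := by
  classical
  haveI := Fintype.ofFinite (Lns H₁ H₂)
  by_contra hh
  push Not at hh
  have hsub : (Finset.univ.filter fun n : Lns H₁ H₂ => p ∈ n) ⊆ {l, m} := fun n hn => by
    rcases eq_or_ne n l with h | h
    · simp [h]
    · simp [hh n (Finset.mem_filter.1 hn).2 h]
  have h1 := card_line_mem (H₁ := H₁) (H₂ := H₂) p
  rw [hr₂, Nat.card_eq_fintype_card, Fintype.card_subtype] at h1
  have h3 := (Finset.card_le_card hsub).trans Finset.card_le_two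
  omega

include hq hr₁ in
/-- A line has a point besides a given one. -/
theorem exists_point_ne (l : Lns H₁ H₂) (p : Pts H₁ H₂) : ∃ r : Pts H₁ H₂, r ∈ l ∧ r ≠ p := by
  classical
  haveI := Fintype.ofFinite (Pts H₁ H₂)
  by_contra hh
  push Not at hh
  have hsub : (Finset.univ.filter fun r : Pts H₁ H₂ => r ∈ l) ⊆ {p} := fun r hr => by
    simp [hh r (Finset.mem_filter.1 hr).2]
  have h1 := card_mem_line (H₁ := H₁) (H₂ := H₂) l
  rw [hr₁, Nat.card_eq_fintype_card, Fintype.card_subtype] at h1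
  have h3 := Finset.card_le_card hsub
  rw [Finset.card_singleton] at h3
  omega

include hq hi₁ hi₂ hr₁ hr₂ h2 in
/-- The cosets form a projective plane. -/
theorem nonempty_projectivePlane : Nonempty (ProjectivePlane (Pts H₁ H₂) (Lns H₁ H₂)) := by
  classical
  haveI := Fintype.ofFinite (Pts H₁ H₂)
  haveI := Fintype.ofFinite (Lns H₁ H₂)
  have hu := existsUnique_line hq hi₁ hr₁ hr₂ h2
  have hP : Fintype.card (Pts H₁ H₂) = q ^ 2 + q + 1 := by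
    rw [← Nat.card_eq_fintype_card]; exact hi₁
  have hL : Fintype.card (Lns H₁ H₂) = q ^ 2 + q + 1 := by
    rw [← Nat.card_eq_fintype_card]; exact hi₂
  have hexp : ∀ l : Lns H₁ H₂, ∃ p, p ∉ l := fun l => by
    by_contra hh
    push Not at hh
    have h1 := card_mem_line (H₁ := H₁) (H₂ := H₂) l
    rw [Nat.card_congr (Equiv.subtypeUnivEquiv hh), Nat.card_eq_fintype_card, hP, hr₁] at h1
    nlinarith
  have hexl : ∀ p : Pts H₁ H₂, ∃ l : Lns H₁ H₂, p ∉ l := fun p => by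
    by_contra hh
    push Not at hh
    have h1 := card_line_mem (H₁ := H₁) (H₂ := H₂) p
    rw [Nat.card_congr (Equiv.subtypeUnivEquiv hh), Nat.card_eq_fintype_card, hL, hr₂] at h1
    nlinarith
  letI hl : HasLines (Pts H₁ H₂) (Lns H₁ H₂) :=
    { exists_point := hexp
      exists_line := hexl
      eq_or_eq := fun {p₁ p₂ l₁ l₂} a b c d => (eq_or_ne p₁ p₂).imp_right fun hne =>
        (hu p₁ p₂ hne).unique ⟨a, b⟩ ⟨c, d⟩
      mkLine := fun {p₁ p₂} h => (hu p₁ p₂ h).exists.choose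
      mkLine_ax := fun {p₁ p₂} h => (hu p₁ p₂ h).exists.choose_spec }
  letI hp : HasPoints (Pts H₁ H₂) (Lns H₁ H₂) :=
    HasLines.hasPoints (hP.trans hL.symm)
  refine ⟨{ hp, hl with exists_config := ?_ }⟩
  set l₂ := ln H₁ H₂ (1 : G) with hl₂
  obtain ⟨p₁, hp₁⟩ := hexp l₂
  obtain ⟨p₂, hp₂, -⟩ := exists_point_ne hq hr₁ l₂ p₁
  obtain ⟨p₃, hp₃, h32⟩ := exists_point_ne hq hr₁ l₂ p₂
  have h12 : p₁ ≠ p₂ := fun e => hp₁ (e ▸ hp₂)
  have h13 : p₁ ≠ p₃ := fun e => hp₁ (e ▸ hp₃)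
  obtain ⟨l₃, h₃, a₃, b₃⟩ := exists_third_line hq hr₂ p₂ (hu p₁ p₂ h12).exists.choose l₂
  obtain ⟨l₁, h₁, a₁, b₁⟩ := exists_third_line hq hr₂ p₁ (hu p₁ p₂ h12).exists.choose
    (hu p₁ p₃ h13).exists.choose
  have key : ∀ {r s : Pts H₁ H₂} (h : r ≠ s) {l : Lns H₁ H₂}, r ∈ l → s ∈ l →
      l = (hu r s h).exists.choose :=
    fun h _ a b => (hu _ _ h).unique ⟨a, b⟩ (hu _ _ h).exists.choose_spec
  refine ⟨p₁, p₂, p₃, l₁, l₂, l₃, hp₁, fun e => a₃ (key h12 e h₃), fun e => a₁ (key h12 h₁ e),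
    hp₂, h₃, fun e => b₁ (key h13 h₁ e), hp₃, fun e => b₃ ?_⟩
  exact (key h32 e h₃).trans (key h32 hp₃ hp₂).symm

end Plane

end CfsgLib.Recog.RankTwo
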