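import Mathlib
import Cfsg.Agent.Lib.Classical.SLGroup

/-!
A simple group of collineations of the projective plane over `F`, transitive on lines, with a
subgroup of order `q²` fixing a line pointwise, is `PSL₃(F)`: axial collineations are linear, those
of `p`-power order are transvections, and the transvections generate.
-/

set_option autoImplicit false

namespace CfsgLib.Recog.RankTwo

open Projectivization Module
open scoped LinearAlgebra.Projectivization

variable {F : Type*} [Field F]

local notation "V" => Fin 3 → F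

theorem mk_le_iff (W : Submodule F V) (v : V) (hv : v ≠ 0) :
    (mk F v hv).submodule ≤ W ↔ v ∈ W := by
  rw [submodule_mk, Submodule.span_singleton_le_iff_mem]

/-- A functional with a given plane as kernel, and a vector where it is `1`. -/
theorem exists_functional (W : Submodule F V) (hW : finrank F W = 2) :
    ∃ (φ : Dual F V) (e : V), φ e = 1 ∧ ∀ v, v ∈ W ↔ φ v = 0 := by
  obtain ⟨f, hf, hle⟩ := Submodule.exists_le_ker_of_lt_top W (lt_top_iff_ne_top.2 fun h => by
    rw [h, finrank_top, Module.finrank_fin_fun] at hW; omega)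
  have hker : finrank F (LinearMap.ker f) = 2 := by
    have h := Module.Dual.finrank_ker_add_one_of_ne_zero hf
    rw [Module.finrank_fin_fun] at h
    omega
  have hWk : W = LinearMap.ker f := Submodule.eq_of_le_of_finrank_le hle (by rw [hker, hW])
  obtain ⟨e, he⟩ : ∃ e, f e ≠ 0 := by
    by_contra h
    push Not at h
    exact hf (LinearMap.ext h)
  refine ⟨f, (f e)⁻¹ • e, by rw [map_smul, smul_eq_mul, inv_mul_cancel₀ he], fun v => ?_⟩
  rw [hWk, LinearMap.mem_ker]

/-- Two vectors of the kernel of `φ` which, with the same shift off the kernel, lie in one plane. -/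
theorem prop_of_plane {φ : Dual F V} {W : Submodule F V} (hW : finrank F W = 2) {a : V} (ha : φ a ≠ 0)
    (haW : a ∈ W) {u v : V} (hu : φ u = 0) (hv : φ v = 0) (huW : u ∈ W) (hvW : v ∈ W) (hv0 : v ≠ 0) :
    ∃ c : F, u = c • v := by
  set K := W ⊓ LinearMap.ker φ with hK
  have hlt : K < W := lt_of_le_of_ne inf_le_left fun h => ha (LinearMap.mem_ker.1 (h.ge haW).2)
  have h1 := Submodule.finrank_lt_finrank_of_lt hlt
  have hvK : v ∈ K := ⟨hvW, hv⟩
  have h2 : (F ∙ v) = K := Submodule.eq_of_le_of_finrank_le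
    ((Submodule.span_singleton_le_iff_mem _ _).2 hvK) (by rw [finrank_span_singleton hv0]; omega)
  have h3 : u ∈ (F ∙ v) := h2.ge ⟨huW, hu⟩
  obtain ⟨c, hc⟩ := Submodule.mem_span_singleton.1 h3
  exact ⟨c, hc.symm⟩

/-- The collineations: lines go to lines. -/
def IsLineMap (σ : Equiv.Perm (ℙ F V)) : Prop :=
  ∀ W : Submodule F V, finrank F W = 2 → ∃ W' : Submodule F V, finrank F W' = 2 ∧
    ∀ x : ℙ F V, (σ x).submodule ≤ W' ↔ x.submodule ≤ W

theorem finrank_span_pair {a b : V} (h : LinearIndependent F ![a, b]) :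
    finrank F (Submodule.span F {a, b}) = 2 := by
  have := finrank_span_eq_card h
  rwa [Matrix.range_cons, Matrix.range_cons, Matrix.range_empty, Set.union_empty,
    Fintype.card_fin] at this

theorem indep_of_kernel {φ : Dual F V} {a v : V} (ha : φ a ≠ 0) (hv : φ v = 0) (hv0 : v ≠ 0) :
    LinearIndependent F ![a, v] := by
  refine LinearIndependent.pair_iff.2 fun s t h => ?_
  have h1 := congrArg φ h
  rw [map_add, map_smul, map_smul, hv, smul_zero, add_zero, map_zero, smul_eq_mul] at h1
  have hs : s = 0 := (mul_eq_zero.1 h1).resolve_right ha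
  rw [hs, zero_smul, zero_add] at h
  exact ⟨hs, (smul_eq_zero.1 h).resolve_right hv0⟩

/-- **A collineation fixing a line pointwise is linear.** -/
theorem exists_linear {σ : Equiv.Perm (ℙ F V)} (hσ : IsLineMap σ) {φ : Dual F V} {e : V}
    (he : φ e = 1) (hfix : ∀ (v : V) (hv : v ≠ 0), φ v = 0 → σ (mk F v hv) = mk F v hv) :
    ∃ d : V, 1 + φ d ≠ 0 ∧
      ∀ (v : V) (hv : v ≠ 0) (hv' : v + φ v • d ≠ 0), σ (mk F v hv) = mk F (v + φ v • d) hv' := by
  classical
  have hoff : ∀ (v : V) (hv : v ≠ 0), φ v ≠ 0 →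
      ∃ w : V, ∃ hw : w ≠ 0, φ w = 1 ∧ σ (mk F v hv) = mk F w hw := by
    intro v hv hφv
    obtain ⟨w, hw, hσw⟩ : ∃ w : V, ∃ hw : w ≠ 0, σ (mk F v hv) = mk F w hw :=
      ⟨_, Projectivization.rep_nonzero _, (mk_rep _).symm⟩
    have hφw : φ w ≠ 0 := by
      intro h0
      have h1 : σ (mk F v hv) = σ (mk F w hw) := by rw [hσw, hfix w hw h0]
      obtain ⟨c, hc⟩ := (mk_eq_mk_iff' F v w hv hw).1 (σ.injective h1)
      exact hφv (by rw [← hc, map_smul, h0, smul_zero])
    refine ⟨(φ w)⁻¹ • w, smul_ne_zero (inv_ne_zero hφw) hw, by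
      rw [map_smul, smul_eq_mul, inv_mul_cancel₀ hφw], hσw.trans ?_⟩
    rw [mk_eq_mk_iff']
    exact ⟨φ w, by rw [smul_smul, mul_inv_cancel₀ hφw, one_smul]⟩
  have he0 : e ≠ 0 := fun h => by rw [h, map_zero] at he; exact zero_ne_one he
  obtain ⟨e', he'0, he', hσe⟩ := hoff e he0 (by rw [he]; exact one_ne_zero)
  have hne : ∀ v : V, φ v = 0 → e + v ≠ 0 := fun v hv h => by
    have h1 := congrArg φ h
    rw [map_add, he, hv, add_zero, map_zero] at h1
    exact one_ne_zero h1
  -- the shift along the line through `e` and `v`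
  have hlam : ∀ (v : V) (hv : φ v = 0), v ≠ 0 →
      ∃ l : F, l ≠ 0 ∧ ∃ h : e' + l • v ≠ 0, σ (mk F (e + v) (hne v hv)) = mk F (e' + l • v) h := by
    intro v hv hv0
    obtain ⟨W', hW', hiff⟩ := hσ (Submodule.span F {e, v})
      (finrank_span_pair (indep_of_kernel (by rw [he]; exact one_ne_zero) hv hv0))
    have m1 : e' ∈ W' := (mk_le_iff W' e' he'0).1 (hσe ▸ (hiff _).2
      ((mk_le_iff _ e he0).2 (Submodule.subset_span (Set.mem_insert _ _))))
    have m2 : v ∈ W' := (mk_le_iff W' v hv0).1 (hfix v hv0 hv ▸ (hiff _).2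
      ((mk_le_iff _ v hv0).2 (Submodule.subset_span (Set.mem_insert_of_mem _ rfl))))
    obtain ⟨w, hw, hw1, hσw⟩ := hoff (e + v) (hne v hv) (by rw [map_add, he, hv, add_zero]; exact one_ne_zero)
    have m3 : w ∈ W' := (mk_le_iff W' w hw).1 (hσw ▸ (hiff _).2
      ((mk_le_iff _ _ _).2 (add_mem (Submodule.subset_span (Set.mem_insert _ _))
        (Submodule.subset_span (Set.mem_insert_of_mem _ rfl)))))
    obtain ⟨l, hl⟩ := prop_of_plane hW' (φ := φ) (a := e') (by rw [he']; exact one_ne_zero) m1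
      (u := w - e') (by rw [map_sub, hw1, he', sub_self]) hv (sub_mem m3 m1) m2 hv0
    have hw' : w = e' + l • v := by rw [← hl]; abel
    subst hw'
    refine ⟨l, fun h0 => ?_, hw, hσw⟩
    have h1 : σ (mk F (e + v) (hne v hv)) = σ (mk F e he0) := by
      rw [hσw, hσe]
      exact (mk_eq_mk_iff' F _ _ _ _).2 ⟨1, by rw [h0, zero_smul, add_zero, one_smul]⟩
    obtain ⟨c, hc⟩ := (mk_eq_mk_iff' F _ _ _ _).1 (σ.injective h1)
    have h2 := congrArg φ hc
    rw [map_smul, map_add, he, hv, add_zero, smul_eq_mul, mul_one] at h2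
    rw [h2, one_smul] at hc
    exact hv0 (by simpa using hc)
  choose lam hlam0 hlamne hlamσ using hlam
  -- it is constant
  have hconst : ∀ (u v : V) (hu : φ u = 0) (hv : φ v = 0) (hu0 : u ≠ 0) (hv0 : v ≠ 0),
      LinearIndependent F ![u, v] → lam u hu hu0 = lam v hv hv0 := by
    intro u v hu hv hu0 hv0 hind
    have huv0 : u - v ≠ 0 := fun h => by
      have := (LinearIndependent.pair_iff.1 hind 1 (-1) (by rw [one_smul, neg_smul, one_smul, ← sub_eq_add_neg, h])).1
      exact one_ne_zero this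
    obtain ⟨W', hW', hiff⟩ := hσ (Submodule.span F {e + v, u - v}) (finrank_span_pair
      (indep_of_kernel (φ := φ) (by rw [map_add, he, hv, add_zero]; exact one_ne_zero)
        (by rw [map_sub, hu, hv, sub_self]) huv0))
    have m1 : u - v ∈ W' := (mk_le_iff W' _ huv0).1
      (hfix _ huv0 (by rw [map_sub, hu, hv, sub_self]) ▸ (hiff _).2
        ((mk_le_iff _ _ huv0).2 (Submodule.subset_span (Set.mem_insert_of_mem _ rfl))))
    have m2 : e' + lam v hv hv0 • v ∈ W' := (mk_le_iff W' _ (hlamne v hv hv0)).1 (hlamσ v hv hv0 ▸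
      (hiff _).2 ((mk_le_iff _ _ _).2 (Submodule.subset_span (Set.mem_insert _ _))))
    have m3 : e' + lam u hu hu0 • u ∈ W' := (mk_le_iff W' _ (hlamne u hu hu0)).1 (hlamσ u hu hu0 ▸
      (hiff _).2 ((mk_le_iff _ _ _).2 (by
        rw [show e + u = (e + v) + (u - v) by abel]
        exact add_mem (Submodule.subset_span (Set.mem_insert _ _))
          (Submodule.subset_span (Set.mem_insert_of_mem _ rfl)))))
    obtain ⟨c, hc⟩ := prop_of_plane hW' (φ := φ) (a := e' + lam v hv hv0 • v)
      (by rw [map_add, map_smul, he', hv, smul_zero, add_zero]; exact one_ne_zero) m2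
      (u := lam u hu hu0 • u - lam v hv hv0 • v) (by simp [hu, hv])
      (by rw [map_sub, hu, hv, sub_self]) (by
        rw [show lam u hu hu0 • u - lam v hv hv0 • v
          = (e' + lam u hu hu0 • u) - (e' + lam v hv hv0 • v) by abel]
        exact sub_mem m3 m2) m1 huv0
    have := LinearIndependent.pair_iff.1 hind (lam u hu hu0 - c) (c - lam v hv hv0) (by
      rw [sub_smul, sub_smul, ← sub_eq_zero.2 hc]; module)
    rw [sub_eq_zero.1 this.1, sub_eq_zero.1 this.2]
  obtain ⟨v₀, hv₀, hv₀0, v₁, hv₁, hv₁0, hind₀⟩ : ∃ v₀, φ v₀ = 0 ∧ v₀ ≠ 0 ∧ ∃ v₁, φ v₁ = 0 ∧ v₁ ≠ 0 ∧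
      LinearIndependent F ![v₀, v₁] := by
    have hk : finrank F (LinearMap.ker φ) = 2 := by
      have h := Module.Dual.finrank_ker_add_one_of_ne_zero (f := φ) (fun h => by simp [h] at he)
      rw [Module.finrank_fin_fun] at h
      omega
    let b := Module.finBasisOfFinrankEq F (LinearMap.ker φ) hk
    refine ⟨b 0, (b 0).2, fun h => b.ne_zero 0 (Subtype.ext h), b 1, (b 1).2,
      fun h => b.ne_zero 1 (Subtype.ext h), ?_⟩
    refine LinearIndependent.pair_iff.2 fun s t hst => ?_
    have := Fintype.linearIndependent_iff.1 b.linearIndependent ![s, t] (by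
      rw [Fin.sum_univ_two]; exact Subtype.ext (by simpa using hst))
    exact ⟨this 0, this 1⟩
  set l := lam v₀ hv₀ hv₀0 with hl
  have hall : ∀ (v : V) (hv : φ v = 0) (hv0 : v ≠ 0), lam v hv hv0 = l := by
    intro v hv hv0
    by_cases h : LinearIndependent F ![v₀, v]
    · exact (hconst v₀ v hv₀ hv hv₀0 hv0 h).symm
    · rw [LinearIndependent.pair_iff' hv₀0] at h
      push Not at h
      obtain ⟨a, ha⟩ := h
      have ha0 : a ≠ 0 := fun e1 => hv0 (by rw [← ha, e1, zero_smul])
      have h1 : LinearIndependent F ![v, v₁] := by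
        refine LinearIndependent.pair_iff.2 fun s t hst => ?_
        have := LinearIndependent.pair_iff.1 hind₀ (s * a) t (by rw [mul_smul, ha, hst])
        exact ⟨(mul_eq_zero.1 this.1).resolve_right ha0, this.2⟩
      rw [hconst v v₁ hv hv₁ hv0 hv₁0 h1, ← hconst v₀ v₁ hv₀ hv₁ hv₀0 hv₁0 hind₀]
  have hl0 : l ≠ 0 := hlam0 v₀ hv₀ hv₀0
  refine ⟨l⁻¹ • e' - e, ?_, fun v hv hv' => ?_⟩
  · rw [map_sub, map_smul, he', he, smul_eq_mul, mul_one, add_sub_cancel]
    exact inv_ne_zero hl0
  by_cases hφ : φ v = 0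
  · rw [hfix v hv hφ, mk_eq_mk_iff']
    exact ⟨1, by rw [one_smul, hφ, zero_smul, add_zero]⟩
  set a := φ v with ha
  set w := a⁻¹ • v - e with hw
  have hw0 : φ w = 0 := by
    rw [hw, map_sub, map_smul, he, smul_eq_mul, ← ha, inv_mul_cancel₀ hφ, sub_self]
  have hmk : mk F v hv = mk F (e + w) (hne w hw0) := by
    rw [mk_eq_mk_iff']
    exact ⟨a, by rw [hw, add_sub_cancel, smul_smul, mul_inv_cancel₀ hφ, one_smul]⟩
  rw [hmk]
  have hv_eq : v = a • (e + w) := by
    rw [hw, add_sub_cancel, smul_smul, mul_inv_cancel₀ hφ, one_smul]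
  by_cases hw00 : w = 0
  · have h1 : mk F (e + w) (hne w hw0) = mk F e he0 := by
      rw [mk_eq_mk_iff']; exact ⟨1, by rw [one_smul, hw00, add_zero]⟩
    rw [h1, hσe, mk_eq_mk_iff']
    refine ⟨l * a⁻¹, ?_⟩
    rw [← ha]
    conv_lhs => arg 2; arg 1; rw [hv_eq]
    rw [hw00, add_zero, smul_add, smul_smul, smul_smul, smul_sub, smul_smul,
      show l * a⁻¹ * a * l⁻¹ = 1 by field_simp, show l * a⁻¹ * a = l by field_simp, one_smul]
    abel
  · rw [hlamσ w hw0 hw00, mk_eq_mk_iff']
    refine ⟨l * a⁻¹, ?_⟩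
    rw [hall w hw0 hw00, ← ha]
    conv_lhs => arg 2; arg 1; rw [hv_eq]
    match_scalars <;> field_simp <;> ring

/-- An axial collineation of `p`-power order is a transvection. -/
theorem exists_transvection [Finite F] {p : ℕ} [Fact p.Prime] [CharP F p]
    {σ : Equiv.Perm (ℙ F V)} (hσ : IsLineMap σ) {φ : Dual F V} {e : V}
    (he : φ e = 1) (hfix : ∀ (v : V) (hv : v ≠ 0), φ v = 0 → σ (mk F v hv) = mk F v hv)
    {m : ℕ} (hm : σ ^ p ^ m = 1) :
    ∃ d : V, φ d = 0 ∧
      ∀ (v : V) (hv : v ≠ 0) (hv' : v + φ v • d ≠ 0), σ (mk F v hv) = mk F (v + φ v • d) hv' := by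
  obtain ⟨d, hd, hσd⟩ := exists_linear hσ he hfix
  refine ⟨d, ?_, hσd⟩
  set c := 1 + φ d with hc
  have hφ : ∀ v, φ (v + φ v • d) = c * φ v := fun v => by
    rw [map_add, map_smul, smul_eq_mul, hc]; ring
  let g : V →ₗ[F] V := LinearMap.transvection φ d
  have hg : ∀ v, g v = v + φ v • d := LinearMap.transvection.apply φ d
  have hginj : ∀ v, v ≠ 0 → g v ≠ 0 := fun v hv h => by
    rw [hg] at h
    have h1 := hφ v
    rw [h, map_zero] at h1
    rw [(mul_eq_zero.1 h1.symm).resolve_left hd, zero_smul, add_zero] at h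
    exact hv h
  have hgk : ∀ (k : ℕ) (v : V), φ ((g ^ k) v) = c ^ k * φ v := by
    intro k
    induction k with
    | zero => simp
    | succ k ih => intro v; rw [pow_succ', Module.End.mul_apply, hg, hφ, ih, pow_succ']; ring
  have hgk0 : ∀ (k : ℕ) (v : V), v ≠ 0 → (g ^ k) v ≠ 0 := by
    intro k
    induction k with
    | zero => simp
    | succ k ih => intro v hv; rw [pow_succ', Module.End.mul_apply]; exact hginj _ (ih v hv)
  have hσk : ∀ (k : ℕ) (v : V) (hv : v ≠ 0), (σ ^ k) (mk F v hv) = mk F ((g ^ k) v) (hgk0 k v hv) := by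
    intro k
    induction k with
    | zero => intro v hv; simp
    | succ k ih =>
      intro v hv
      rw [pow_succ', Equiv.Perm.mul_apply, ih, hσd _ _ (by rw [← hg]; exact hginj _ (hgk0 k v hv)),
        mk_eq_mk_iff']
      exact ⟨1, by rw [one_smul, pow_succ', Module.End.mul_apply, hg]⟩
  have hker : ∀ (k : ℕ) (v : V), φ v = 0 → (g ^ k) v = v := by
    intro k
    induction k with
    | zero => simp
    | succ k ih => intro v hv; rw [pow_succ', Module.End.mul_apply, ih v hv, hg, hv, zero_smul, add_zero]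
  obtain ⟨u, hu, hu0⟩ : ∃ u : V, φ u = 0 ∧ u ≠ 0 := by
    have hk : finrank F (LinearMap.ker φ) = 2 := by
      have h := Module.Dual.finrank_ker_add_one_of_ne_zero (f := φ) (fun h => by simp [h] at he)
      rw [Module.finrank_fin_fun] at h
      omega
    have hbot : LinearMap.ker φ ≠ ⊥ := fun h => by rw [h, finrank_bot] at hk; omega
    obtain ⟨u, hu, hu0⟩ := Submodule.exists_mem_ne_zero_of_ne_bot hbot
    exact ⟨u, hu, hu0⟩
  set N := p ^ m
  have hfixv : ∀ v, φ v = 1 → (g ^ N) v = c ^ N • v := by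
    intro v hv
    have hv0 : v ≠ 0 := fun h => by simp [h] at hv
    have h1 := hσk N v hv0
    rw [hm, Equiv.Perm.one_apply] at h1
    obtain ⟨a, ha⟩ := (mk_eq_mk_iff' F _ _ _ _).1 h1.symm
    have h2 := congrArg φ ha
    rw [map_smul, hgk, hv, smul_eq_mul, mul_one, mul_one] at h2
    rw [← ha, h2]
  have hs1 : c ^ N = 1 := by
    have h2 := hfixv (e + u) (by rw [map_add, he, hu, add_zero])
    rw [map_add, hker N u hu, hfixv e he, smul_add, add_right_inj] at h2
    by_contra hne
    exact hu0 ((smul_eq_zero.1 (show (c ^ N - 1) • u = 0 by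
      rw [sub_smul, one_smul, ← h2, sub_self])).resolve_left (sub_ne_zero.2 hne))
  have hc1 : c = 1 := by
    have h1 := sub_pow_char_pow (R := F) (p := p) (n := m) c 1
    rw [one_pow, hs1, sub_self] at h1
    exact sub_eq_zero.1 (pow_eq_zero_iff (pow_ne_zero _ (Fact.out : p.Prime).ne_zero) |>.1 h1)
  rw [hc] at hc1
  simpa using hc1

/-- The transvection as an element of the special linear group. -/
noncomputable def slTransvection (φ : Dual F V) (d : V) (h : φ d = 0) : Matrix.SpecialLinearGroup (Fin 3) F :=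
  ⟨LinearMap.toMatrix' (LinearMap.transvection φ d), by
    rw [LinearMap.det_toMatrix', LinearMap.transvection.det, h, add_zero]⟩

theorem slTransvection_smul (φ : Dual F V) (d : V) (h : φ d = 0) (v : V) :
    slTransvection φ d h • v = v + φ v • d := by
  rw [Matrix.SpecialLinearGroup.smul_def, Matrix.smul_eq_mulVec, slTransvection]
  show Matrix.mulVec (LinearMap.toMatrix' (LinearMap.transvection φ d)) v = _
  rw [LinearMap.toMatrix'_mulVec, LinearMap.transvection.apply]

variable {G : Type*} [Group G] [IsSimpleGroup G]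

/-- **A simple collineation group with full elation groups is `PSL₃`.** -/
theorem psl_three_of_elations [Finite F] (ρ : G →* Equiv.Perm (ℙ F V)) (hρ : ρ ≠ 1)
    (hlines : ∀ g, IsLineMap (ρ g))
    (A : Subgroup G) (W₀ : Submodule F V) (hW₀ : finrank F W₀ = 2)
    (hfix : ∀ a ∈ A, ∀ x : ℙ F V, x.submodule ≤ W₀ → ρ a x = x)
    (hcard : Nat.card A = Nat.card F ^ 2)
    (htrans : ∀ W : Submodule F V, finrank F W = 2 →
      ∃ g, ∀ x : ℙ F V, (ρ g x).submodule ≤ W ↔ x.submodule ≤ W₀) :
    Nonempty (G ≃* Matrix.ProjectiveSpecialLinearGroup (Fin 3) F) := by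
  classical
  obtain ⟨p, hp⟩ := CharP.exists F
  haveI : Fact p.Prime := ⟨CharP.char_is_prime F p⟩
  haveI := Fintype.ofFinite F
  obtain ⟨n, -, hn⟩ := FiniteField.card F p
  have hinj : Function.Injective ρ := by
    rcases ρ.normal_ker.eq_bot_or_eq_top with h | h
    · exact (MonoidHom.ker_eq_bot_iff ρ).1 h
    · exact absurd (MonoidHom.ext fun g => MonoidHom.mem_ker.1 (h.symm.le (Subgroup.mem_top g))) hρ
  let π : Matrix.SpecialLinearGroup (Fin 3) F →* Equiv.Perm (ℙ F V) :=
    MulAction.toPermHom (Matrix.SpecialLinearGroup (Fin 3) F) (ℙ F V)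
  have hπ : ∀ φ d h (v : V) (hv : v ≠ 0) (hv' : v + φ v • d ≠ 0),
      π (slTransvection φ d h) (mk F v hv) = mk F (v + φ v • d) hv' := fun φ d h v hv hv' => by
    show slTransvection φ d h • mk F v hv = _
    rw [smul_mk, mk_eq_mk_iff']
    exact ⟨1, by rw [one_smul, slTransvection_smul]⟩
  have hpow : ∀ a ∈ A, a ^ p ^ (n * 2 : ℕ) = 1 := by
    intro a ha
    have h1 := pow_card_eq_one' (x := (⟨a, ha⟩ : A))
    rw [hcard, Nat.card_eq_fintype_card, hn, ← pow_mul] at h1
    exact congrArg Subtype.val h1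
  -- conjugates of `A` act as transvections
  have hconj : ∀ (g : G) (W : Submodule F V), finrank F W = 2 →
      (∀ x : ℙ F V, (ρ g x).submodule ≤ W ↔ x.submodule ≤ W₀) →
      ∀ φ : Dual F V, ∀ e : V, φ e = 1 → (∀ v, v ∈ W ↔ φ v = 0) → ∀ a ∈ A,
      ∃ (d : V) (h : φ d = 0), ρ (g * a * g⁻¹) = π (slTransvection φ d h) := by
    intro g W hW hg φ e he hker a ha
    obtain ⟨d, hd, hσ⟩ := exists_transvection (p := p) (m := n * 2) (hlines (g * a * g⁻¹)) he
      (fun v hv h0 => by
        have hx : (ρ g⁻¹ (mk F v hv)).submodule ≤ W₀ := by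
          rw [← hg, ← Equiv.Perm.mul_apply, ← map_mul, mul_inv_cancel, map_one, Equiv.Perm.one_apply,
            mk_le_iff, hker]
          exact h0
        rw [map_mul, map_mul, Equiv.Perm.mul_apply, Equiv.Perm.mul_apply, hfix a ha _ hx,
          ← Equiv.Perm.mul_apply, ← map_mul, mul_inv_cancel, map_one, Equiv.Perm.one_apply])
      (by rw [← map_pow, conj_pow, hpow a ha, mul_one, mul_inv_cancel, map_one])
    refine ⟨d, hd, Equiv.ext fun x => ?_⟩
    induction x using Projectivization.ind with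
    | _ v hv =>
      have hv' : v + φ v • d ≠ 0 := fun h0 => by
        have h1 := congrArg φ h0
        rw [map_add, map_smul, hd, smul_zero, add_zero, map_zero] at h1
        rw [h1, zero_smul, add_zero] at h0
        exact hv h0
      rw [hσ v hv hv', hπ φ d hd v hv hv']
  have hline : ∀ g, ∃ W : Submodule F V, finrank F W = 2 ∧
      ∀ x : ℙ F V, (ρ g x).submodule ≤ W ↔ x.submodule ≤ W₀ := fun g => hlines g W₀ hW₀
  have hle : ρ.range ≤ π.range := by
    have htop : Subgroup.normalClosure (A : Set G) = ⊤ := by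
      rcases (Subgroup.normalClosure_normal (s := (A : Set G))).eq_bot_or_eq_top with h | h
      · exfalso
        have h1 : A = ⊥ := eq_bot_iff.2 fun a ha => h.le (Subgroup.subset_normalClosure ha)
        rw [h1, Subgroup.card_bot] at hcard
        have h2 : 2 ≤ Nat.card F := Finite.one_lt_card
        nlinarith
      · exact h
    rw [MonoidHom.range_eq_map, ← htop, Subgroup.map_le_iff_le_comap,
      Subgroup.normalClosure, Subgroup.closure_le]
    intro y hy
    obtain ⟨a, ha, hay⟩ := Group.mem_conjugatesOfSet_iff.1 hy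
    obtain ⟨g, rfl⟩ := isConj_iff.1 hay
    obtain ⟨W, hW, hg⟩ := hline g
    obtain ⟨φ, e, he, hker⟩ := exists_functional W hW
    obtain ⟨d, hd, h⟩ := hconj g W hW hg φ e he hker a ha
    exact ⟨_, h.symm⟩
  have hge : π.range ≤ ρ.range := by
    have htop : ρ.range.comap π = ⊤ := by
      refine CfsgLib.Classical.closure_transvection_eq_top _ fun i j hij c => ?_
      let φ : Dual F V := LinearMap.proj j
      have he : φ (Pi.single j 1) = 1 := by simp [φ]
      have hW : finrank F (LinearMap.ker φ) = 2 := by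
        have h := Module.Dual.finrank_ker_add_one_of_ne_zero (f := φ) (fun h => by simp [h] at he)
        rw [Module.finrank_fin_fun] at h
        omega
      obtain ⟨g, hg⟩ := htrans _ hW
      choose f hf0 hf using fun a : A => hconj g _ hW hg φ _ he (fun v => LinearMap.mem_ker) a a.2
      let F' : A → LinearMap.ker φ := fun a => ⟨f a, hf0 a⟩
      have hF' : Function.Injective F' := fun a b hab => by
        have h2 : f a = f b := congrArg Subtype.val hab
        have h1 : ρ (g * a * g⁻¹) = ρ (g * b * g⁻¹) := by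
          rw [hf a, hf b]; congr 2
        exact Subtype.ext (mul_left_cancel (mul_right_cancel (hinj h1)))
      have hbij : Function.Bijective F' := by
        haveI : Finite A := Nat.finite_of_card_ne_zero (by rw [hcard]; exact pow_ne_zero _ Nat.card_pos.ne')
        haveI := Fintype.ofFinite A
        haveI := Fintype.ofFinite (LinearMap.ker φ)
        rw [Fintype.bijective_iff_injective_and_card]
        refine ⟨hF', ?_⟩
        rw [← Nat.card_eq_fintype_card, hcard, Module.card_eq_pow_finrank (K := F), hW,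
          Nat.card_eq_fintype_card]
      have hd : φ (c • Pi.single i (1 : F)) = 0 := by simp [φ, hij.symm]
      obtain ⟨a, ha⟩ := hbij.2 ⟨c • Pi.single i (1 : F), hd⟩
      refine ⟨g * a * g⁻¹, ?_⟩
      rw [hf a]
      congr 1
      refine CfsgLib.Classical.sl_ext_smul fun x => funext fun k => ?_
      rw [slTransvection_smul, CfsgLib.Classical.transvection_smul_apply hij,
        show f a = c • Pi.single i (1 : F) from congrArg Subtype.val ha]
      simp [φ, Pi.single_apply]
      split_ifs <;> ring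
    rw [MonoidHom.range_eq_map, Subgroup.map_le_iff_le_comap, htop]
  have hπ' : π.range = (Projectivization.PSLAction.toPermHom (K := F) (ι := Fin 3)).range := by
    apply le_antisymm
    · rintro _ ⟨s, rfl⟩; exact ⟨(s : Matrix.ProjectiveSpecialLinearGroup (Fin 3) F), rfl⟩
    · rintro _ ⟨s, rfl⟩
      induction s using QuotientGroup.induction_on with | _ s => exact ⟨s, rfl⟩
  exact ⟨(MonoidHom.ofInjective hinj).trans
    ((MulEquiv.subgroupCongr ((le_antisymm hle hge).trans hπ')).trans
      (MonoidHom.ofInjective Matrix.ProjectiveSpecialLinearGroup.toPermHom_injective).symm)⟩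

end CfsgLib.Recog.RankTwo
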