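import Cfsg.Agent.Lib.Recog.RankTwo.CosetPlane
import Cfsg.Agent.Lib.Recog.RankTwo.PlaneLinear
import Cfsg.Agent.S3732

/-!
A simple group with two "parabolics" of index `q² + q + 1` forming a doubly transitive plane, and a
subgroup of order `q²` fixing a line pointwise, is `PSL₃(q)`.
-/

set_option autoImplicit false

namespace CfsgLib.Recog.RankTwo

open Configuration
open scoped LinearAlgebra.Projectivization

/-- **Recognition of `PSL₃(q)` from two parabolics.** -/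
theorem psl_three_of_flags {G : Type*} [Group G] [Finite G] [IsSimpleGroup G]
    {H₁ H₂ A : Subgroup G} {q : ℕ} (hq : 2 ≤ q) (hi₁ : H₁.index = q ^ 2 + q + 1)
    (hi₂ : H₂.index = q ^ 2 + q + 1) (hr₁ : H₁.relIndex H₂ = q + 1) (hr₂ : H₂.relIndex H₁ = q + 1)
    (h2 : ∀ g h : G, g ∉ H₁ → h ∉ H₁ → ∃ a ∈ H₁, (a * g)⁻¹ * h ∈ H₁)
    (hA : ∀ a ∈ A, ∀ h ∈ H₂, h⁻¹ * a * h ∈ H₁) (hAcard : Nat.card A = q ^ 2) :
    ∃ (F : Type) (_ : Field F) (_ : Fintype F), Fintype.card F = q ∧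
      Nonempty (G ≃* Matrix.ProjectiveSpecialLinearGroup (Fin 3) F) := by
  classical
  have h2' : ∀ g h : G, g ∉ H₁ → h ∉ H₁ → ∃ a ∈ H₁, pt H₁ H₂ (a * g) = pt H₁ H₂ h := fun g h hg hh => by
    obtain ⟨a, ha, e⟩ := h2 g h hg hh
    exact ⟨a, ha, pt_eq.2 e⟩
  haveI := Fintype.ofFinite (Pts H₁ H₂)
  haveI := Fintype.ofFinite (Lns H₁ H₂)
  obtain ⟨inst⟩ := nonempty_projectivePlane hq hi₁ hi₂ hr₁ hr₂ h2'
  letI := inst
  obtain ⟨F, _, _, φ, hφ, hφ'⟩ := Cfsg.Agent.S3732.result (P := Pts H₁ H₂) (L := Lns H₁ H₂)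
    fun p₁ p₂ q₁ q₂ hp hq' => by
      obtain ⟨g, g1, g2⟩ := two_trans h2' p₁ p₂ q₁ q₂ hp hq'
      exact ⟨MulAction.toPerm g, MulAction.toPerm g, fun p l => smul_mem_iff g p l, g1, g2⟩
  have hF : Fintype.card F = q := by
    have h1 := Projectivization.card' F (Fin 3 → F)
    rw [← Nat.card_congr φ, show Nat.card (Pts H₁ H₂) = q ^ 2 + q + 1 from hi₁, Nat.card_fun,
      Nat.card_fin, Nat.card_eq_fintype_card] at h1
    obtain ⟨c, hc⟩ : ∃ c, Fintype.card F = c + 2 :=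
      ⟨Fintype.card F - 2, (Nat.sub_add_cancel Fintype.one_lt_card).symm⟩
    rw [hc] at h1 ⊢
    rw [show c + 2 - 1 = c + 1 by omega] at h1
    have h2 : (c + 1) * ((c + 2) ^ 2 + (c + 2) + 1) = (c + 1) * (q ^ 2 + q + 1) := by
      linear_combination h1
    have h3 := Nat.eq_of_mul_eq_mul_left (Nat.succ_pos c) h2
    nlinarith
  let ρ : G →* Equiv.Perm (ℙ F (Fin 3 → F)) :=
    (φ.permCongrHom.toMonoidHom).comp (MulAction.toPermHom G (Pts H₁ H₂))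
  have hρ : ∀ g x, ρ g x = φ (g • φ.symm x) := fun g x => rfl
  have hlines : ∀ g, IsLineMap (ρ g) := fun g W hW => by
    obtain ⟨l, hl⟩ := hφ' W hW
    obtain ⟨W', hW', hl'⟩ := hφ (g • l)
    refine ⟨W', hW', fun x => ?_⟩
    rw [hρ, ← hl', smul_mem_iff, hl, Equiv.apply_symm_apply]
  obtain ⟨W₀, hW₀, hl₀⟩ := hφ (ln H₁ H₂ 1)
  refine ⟨F, inferInstance, inferInstance, hF, psl_three_of_elations ρ ?_ hlines A W₀ hW₀ ?_ ?_ ?_⟩
  · intro h
    have h1 : H₁ = ⊤ := eq_top_iff.2 fun g _ => by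
      have e : g • pt H₁ H₂ 1 = pt H₁ H₂ 1 := φ.injective (by
        have e2 := hρ g (φ (pt H₁ H₂ 1))
        rw [h, Equiv.symm_apply_apply] at e2
        exact e2.symm)
      rw [smul_pt, mul_one, pt_eq, mul_one] at e
      exact inv_mem_iff.1 e
    rw [h1, Subgroup.index_top] at hi₁
    nlinarith
  · intro a ha x hx
    rw [hρ]
    rw [← φ.apply_symm_apply x, ← hl₀] at hx
    obtain ⟨h, hh, hh2⟩ := hx
    have hh2' : h ∈ H₂ := by
      have := ln_eq.1 hh2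
      rw [mul_one] at this
      exact inv_mem_iff.1 this
    rw [← hh, smul_pt, show pt H₁ H₂ (a * h) = pt H₁ H₂ h from pt_eq.2 ?_, hh, φ.apply_symm_apply]
    rw [show (a * h)⁻¹ * h = (h⁻¹ * a * h)⁻¹ by group]
    exact inv_mem (hA a ha h hh2')
  · rw [hAcard, Nat.card_eq_fintype_card, hF]
  · intro W hW
    obtain ⟨l, hl⟩ := hφ' W hW
    obtain ⟨g, rfl⟩ := ln_surj l
    refine ⟨g, fun x => ?_⟩
    rw [hρ, ← hl, show ln H₁ H₂ g = g • ln H₁ H₂ 1 by rw [smul_ln, mul_one], smul_mem_iff, hl₀,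
      φ.apply_symm_apply]

end CfsgLib.Recog.RankTwo
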